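/-
p-closed groups and p-irreducible groups: elementary lemmas.
* `isPClosed_iff`, `sylow_inf_le_pCore_of_isPClosed`, `isPClosed_iff_of_surjective`
* `map_pResidual`, `mem_of_pMod`, `mem_of_subnormal_index`
* `eq_top_of_not_le` : the unique maximal overgroup.
-/
import Cfsg.Agent.Lib.PReduced.Tools
import Cfsg.Agent.Lib.Cores.Subnormal
import Cfsg.Agent.Lib.Transfer.Residual

namespace Cfsg.Agent.PIrred

open Subgroup Cfsg.Agent.PReduced

variable {G : Type*} [Group G] {p : ℕ}

theorem isPClosed_iff [Finite G] [Fact p.Prime] (T : Sylow p G) :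
    Cfsg.IsPClosed p G ↔ (T : Subgroup G) ≤ Cfsg.pCore p G := by
  constructor
  · exact fun h => PReduced.le_pCore (h T) T.2
  · intro h P
    have h1 : (T : Subgroup G) = Cfsg.pCore p G := le_antisymm h (PReduced.pCore_le_sylow T)
    have h2 : (P : Subgroup G) = Cfsg.pCore p G :=
      (T.3 P.2 (by rw [h1]; exact PReduced.pCore_le_sylow P)).trans h1
    rw [h2]
    exact PReduced.pCore_normal p G

theorem not_isPClosed_of_normalClosure [Finite G] [Fact p.Prime] (T : Sylow p G)
    (h : normalClosure ((T : Subgroup G) : Set G) = ⊤) (hT : (T : Subgroup G) ≠ ⊤) :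
    ¬ Cfsg.IsPClosed p G := by
  intro hc
  haveI : (T : Subgroup G).Normal := hc T
  exact hT ((normalClosure_eq_self _).symm.trans h)

theorem mem_pResidual {x : G} (hx : (orderOf x).Coprime p) : x ∈ Cfsg.pResidual p G :=
  subset_closure hx

theorem mem_of_pMod {C N : Subgroup G} (h : pMod p C N) {x : G} (hx : x ∈ N)
    (hco : (orderOf x).Coprime p) : x ∈ C := by
  obtain ⟨k, hk⟩ := h x hx
  exact Transfer.mem_of_pow_mem_of_coprime (hco.pow_right k)
    (by rw [pow_orderOf_eq_one]; exact one_mem _) hk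

/-- If `N` has `p`-power exponent modulo `C`, then so does every `O^p` inside `N`. -/
theorem pResidual_map_le_of_pMod {H C : Subgroup G} {N : Subgroup G} (h : pMod p C N) (hHN : H ≤ N) :
    (Cfsg.pResidual p ↥H).map H.subtype ≤ C := by
  rw [Cfsg.pResidual, MonoidHom.map_closure, closure_le]
  rintro _ ⟨x, hx, rfl⟩
  refine mem_of_pMod h (hHN x.2) ?_
  rw [show orderOf (H.subtype x) = orderOf x from orderOf_injective _ H.subtype_injective x]
  exact hx

/-- The intersection of a Sylow subgroup with a `p`-closed normal subgroup lies in the `p`-core. -/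
theorem sylow_inf_le_pCore_of_isPClosed [Finite G] [Fact p.Prime] {N : Subgroup G} [hN : N.Normal]
    (hc : Cfsg.IsPClosed p ↥N) (T : Sylow p G) : (T : Subgroup G) ⊓ N ≤ Cfsg.pCore p G := by
  have h := (isPClosed_iff (sylowOfSubnormal T hN.isSubnormal)).1 hc
  rw [sylowOfSubnormal_coe] at h
  intro x hx
  exact pCore_map_subtype_le hN.isSubnormal ⟨⟨x, hx.2⟩, h (hx.1), rfl⟩

theorem isPGroup_le_pCore_of_isPClosed [Finite G] [Fact p.Prime] {N : Subgroup G} [hN : N.Normal]
    (hc : Cfsg.IsPClosed p ↥N) {P : Subgroup G} (hP : IsPGroup p ↥P) (hPN : P ≤ N) :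
    P ≤ Cfsg.pCore p G := by
  obtain ⟨T, hT⟩ := hP.exists_le_sylow
  exact (le_inf hT hPN).trans (sylow_inf_le_pCore_of_isPClosed hc T)

theorem isPClosed_of_sylow_inf_le [Finite G] [Fact p.Prime] {N : Subgroup G} [hN : N.Normal]
    (T : Sylow p G) (h : (T : Subgroup G) ⊓ N ≤ Cfsg.pCore p G) : Cfsg.IsPClosed p ↥N := by
  refine (isPClosed_iff (sylowOfSubnormal T hN.isSubnormal)).2 ?_
  rw [sylowOfSubnormal_coe]
  have := PReduced.pCore_normal p G
  refine le_trans ?_ (PReduced.le_pCore (N := (Cfsg.pCore p G).subgroupOf N) inferInstance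
    (IsPGroup.comap_subtype (PReduced.isPGroup_pCore p)))
  exact fun x hx => h (mem_inf.2 ⟨hx, x.2⟩)

theorem isPClosed_iff_of_surjective {H : Type*} [Group H] [Finite G] [Finite H] [Fact p.Prime]
    (f : G →* H) (hf : Function.Surjective f) (hker : IsPGroup p f.ker) :
    Cfsg.IsPClosed p G ↔ Cfsg.IsPClosed p H := by
  obtain ⟨T⟩ : Nonempty (Sylow p G) := inferInstance
  have hker' : f.ker ≤ (T : Subgroup G) :=
    (PReduced.le_pCore inferInstance hker).trans (PReduced.pCore_le_sylow T)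
  rw [isPClosed_iff T, isPClosed_iff (T.mapSurjective hf), Sylow.coe_mapSurjective]
  constructor
  · intro h
    exact (map_mono h).trans (Cores.map_pCore_le f hf p)
  · intro h
    calc (T : Subgroup G) ≤ (Cfsg.pCore p H).comap f := map_le_iff_le_comap.1 h
      _ ≤ Cfsg.pCore p G := Cores.comap_pCore_le f hker

theorem map_pResidual {H : Type*} [Group H] [Finite G] [Finite H] [Fact p.Prime]
    (f : G →* H) (hf : Function.Surjective f) :
    (Cfsg.pResidual p G).map f = Cfsg.pResidual p H := by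
  refine le_antisymm (Transfer.map_pResidual_le f) ?_
  haveI : ((Cfsg.pResidual p G).map f).Normal := (PReduced.pResidual_normal p G).map f hf
  refine Transfer.pResidual_le ?_
  intro q
  obtain ⟨h, rfl⟩ := QuotientGroup.mk'_surjective _ q
  obtain ⟨g, rfl⟩ := hf h
  obtain ⟨k, hk⟩ := pMod_pResidual (p := p) ⊤ g (mem_top g)
  refine ⟨k, ?_⟩
  rw [← map_pow, ← map_pow, QuotientGroup.mk'_apply, QuotientGroup.eq_one_iff]
  exact mem_map_of_mem f hk

/-- A subnormal subgroup of `p`-power index contains every element of order prime to `p`. -/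
theorem mem_of_subnormal_index [Finite G] [Fact p.Prime] {K : Subgroup G} (hK : K.IsSubnormal)
    {n : ℕ} (hn : K.index ∣ p ^ n) {x : G} (hx : (orderOf x).Coprime p) : x ∈ K := by
  induction hK with
  | top => exact mem_top x
  | step A B hle _ hN ih =>
    have hB : x ∈ B := ih ((index_dvd_of_le hle).trans hn)
    have hd : A.relIndex B ∣ p ^ n := (relIndex_dvd_index_of_le hle).trans hn
    have h2 : (⟨x, hB⟩ : ↥B) ^ A.relIndex B ∈ A.subgroupOf B := by
      haveI := hN
      exact (A.subgroupOf B).pow_index_mem _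
    refine Transfer.mem_of_pow_mem_of_coprime
      ((hx.pow_right n).coprime_dvd_right hd) ?_ (show x ^ A.relIndex B ∈ A from h2)
    rw [pow_orderOf_eq_one]; exact one_mem _

/-- With a unique maximal overgroup `M` of `Y`, a subgroup over `Y` outside `M` is everything. -/
theorem eq_top_of_not_le [Finite G] {Y X M : Subgroup G}
    (hu : ∃! M : Subgroup G, IsCoatom M ∧ Y ≤ M) (hM : IsCoatom M ∧ Y ≤ M) (hYX : Y ≤ X)
    (hX : ¬ X ≤ M) : X = ⊤ := by
  by_contra hne
  obtain ⟨M', hM', hXM'⟩ := (eq_top_or_exists_le_coatom X).resolve_left hne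
  exact hX (hu.unique ⟨hM', hYX.trans hXM'⟩ hM ▸ hXM')

theorem le_of_ne_top [Finite G] {Y X M : Subgroup G}
    (hu : ∃! M : Subgroup G, IsCoatom M ∧ Y ≤ M) (hM : IsCoatom M ∧ Y ≤ M) (hYX : Y ≤ X)
    (hX : X ≠ ⊤) : X ≤ M := by
  by_contra h
  exact hX (eq_top_of_not_le hu hM hYX h)

theorem pMod_of_isPGroup_quotient {N : Subgroup G} [N.Normal] (h : IsPGroup p (G ⧸ N)) :
    pMod p N ⊤ := by
  intro x _
  obtain ⟨k, hk⟩ := h (x : G ⧸ N)
  exact ⟨k, (QuotientGroup.eq_one_iff _).1 hk⟩

theorem isPGroup_quotient_of_sup [Finite G] {N T : Subgroup G} [N.Normal] (hT : IsPGroup p ↥T)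
    (h : T ⊔ N = ⊤) : IsPGroup p (G ⧸ N) := by
  refine hT.of_surjective ((QuotientGroup.mk' N).comp T.subtype) fun q => ?_
  induction q using QuotientGroup.induction_on with
  | H g =>
    have hg : g ∈ ((T ⊔ N : Subgroup G) : Set G) := by rw [h]; trivial
    rw [mul_normal] at hg
    obtain ⟨t, ht, n, hn, rfl⟩ := Set.mem_mul.1 hg
    exact ⟨⟨t, ht⟩, QuotientGroup.eq.2 (by simpa using hn)⟩

end Cfsg.Agent.PIrred
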